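import Mathlib
import Cfsg.Agent.Lib.helper3.NormOne
import Cfsg.Agent.Lib.helper3.NormTwo

set_option autoImplicit false
set_option linter.unusedSectionVars false
set_option linter.unusedVariables false

/-!
# Integer vectors of norm three with pairwise inner products two

The combinatorial core of the exceptional-character analysis for a self-centralizing subgroup
of prime order with dihedral normalizer.
-/

namespace Cfsg.Agent.Lib.Helper5.DihN

open Cfsg.Agent.Lib.helper3.Irr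

variable {κ : Type*} [Fintype κ] [DecidableEq κ]

/-- The vector `z` is `δ_{k₀} + m δ_y - ε δ_l`. -/
def Form (k₀ y l : κ) (m ε : ℤ) (z : κ → ℤ) : Prop :=
  y ≠ k₀ ∧ l ≠ k₀ ∧ l ≠ y ∧ z k₀ = 1 ∧ z y = m ∧ z l = -ε ∧
    ∀ c, c ≠ k₀ → c ≠ y → c ≠ l → z c = 0

theorem sum_three (f : κ → ℤ) {x y w : κ} (hxy : x ≠ y) (hxw : x ≠ w) (hyw : y ≠ w)
    (h : ∀ c, c ≠ x → c ≠ y → c ≠ w → f c = 0) : ∑ k, f k = f x + f y + f w := by
  rw [← Finset.add_sum_erase Finset.univ f (Finset.mem_univ x)]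
  rw [← Finset.add_sum_erase (Finset.univ.erase x) f
    (Finset.mem_erase.mpr ⟨hxy.symm, Finset.mem_univ y⟩)]
  rw [← Finset.add_sum_erase ((Finset.univ.erase x).erase y) f
    (Finset.mem_erase.mpr ⟨hyw.symm, Finset.mem_erase.mpr ⟨hxw.symm, Finset.mem_univ w⟩⟩)]
  have h0 : ∑ k ∈ ((Finset.univ.erase x).erase y).erase w, f k = 0 := by
    apply Finset.sum_eq_zero
    intro c hc
    simp only [Finset.mem_erase, Finset.mem_univ, and_true] at hc
    exact h c hc.2.2 hc.2.1 hc.1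
  rw [h0]
  ring

/-- A vector of norm three with entry one at `k₀` has exactly two further entries `±1`. -/
theorem support_of_norm_three (z : κ → ℤ) (k₀ : κ) (h0 : z k₀ = 1) (hn : ∑ k, z k ^ 2 = 3) :
    ∃ a b : κ, a ≠ b ∧ a ≠ k₀ ∧ b ≠ k₀ ∧ (z a = 1 ∨ z a = -1) ∧ (z b = 1 ∨ z b = -1) ∧
      ∀ c, c ≠ k₀ → c ≠ a → c ≠ b → z c = 0 := by
  obtain ⟨f, hf⟩ : ∃ f : κ → ℤ, ∀ k, f k = if k = k₀ then 0 else z k :=
    ⟨fun k => if k = k₀ then 0 else z k, fun _ => rfl⟩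
  have hfk : f k₀ = 0 := by rw [hf, if_pos rfl]
  have hfne : ∀ k, k ≠ k₀ → f k = z k := fun k hk => by rw [hf, if_neg hk]
  have hsum : ∑ k, f k ^ 2 = 2 := by
    have h1 : ∑ k, z k ^ 2 = z k₀ ^ 2 + ∑ k ∈ Finset.univ.erase k₀, z k ^ 2 :=
      (Finset.add_sum_erase _ _ (Finset.mem_univ k₀)).symm
    have h2 : ∑ k, f k ^ 2 = f k₀ ^ 2 + ∑ k ∈ Finset.univ.erase k₀, f k ^ 2 :=
      (Finset.add_sum_erase _ _ (Finset.mem_univ k₀)).symm
    have h3 : ∑ k ∈ Finset.univ.erase k₀, f k ^ 2 = ∑ k ∈ Finset.univ.erase k₀, z k ^ 2 := by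
      apply Finset.sum_congr rfl
      intro k hk
      rw [hfne k (Finset.mem_erase.mp hk).1]
    rw [h2, hfk, h3]
    rw [hn, h0] at h1
    linarith
  obtain ⟨a, b, hab, ha, hb, hrest⟩ := int_sq_sum_two f hsum
  have hak : a ≠ k₀ := by
    intro h
    rw [h, hfk] at ha
    omega
  have hbk : b ≠ k₀ := by
    intro h
    rw [h, hfk] at hb
    omega
  refine ⟨a, b, hab, hak, hbk, ?_, ?_, ?_⟩
  · rwa [hfne a hak] at ha
  · rwa [hfne b hbk] at hb
  · intro c hck hca hcb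
    rw [← hfne c hck]
    exact hrest c hca hcb

/-- Two vectors with the same norm and inner product equal to the norm are equal. -/
theorem eq_of_inner_eq_norm (z w : κ → ℤ) (hzz : ∑ k, z k ^ 2 = 3) (hww : ∑ k, w k ^ 2 = 3)
    (hzw : ∑ k, z k * w k = 3) : ∀ k, z k = w k := by
  have h1 : ∑ k, (z k - w k) ^ 2 = 0 := by
    have : ∀ k, (z k - w k) ^ 2 = z k ^ 2 + w k ^ 2 - 2 * (z k * w k) := fun k => by ring
    rw [Finset.sum_congr rfl (fun k _ => this k), Finset.sum_sub_distrib, Finset.sum_add_distrib,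
      ← Finset.mul_sum, hzz, hww, hzw]
    norm_num
  intro k
  have h2 := (Finset.sum_eq_zero_iff_of_nonneg (fun i _ => sq_nonneg (z i - w i))).mp h1 k
    (Finset.mem_univ k)
  have h3 : z k - w k = 0 := pow_eq_zero_iff (two_ne_zero) |>.mp h2
  linarith

theorem sign_eq_of_mul_pos {s s' D D' : ℤ} (hs : s = 1 ∨ s = -1) (hs' : s' = 1 ∨ s' = -1)
    (hD : 0 < D) (hD' : 0 < D') (h : s * D = s' * D') : s = s' := by
  rcases hs with rfl | rfl <;> rcases hs' with rfl | rfl <;> first | rfl | (exfalso; linarith)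

theorem pair_aux (deg : κ → ℤ) (hdeg : ∀ k, 0 < deg k) (k₀ : κ) (hd0 : deg k₀ = 1)
    (z w : κ → ℤ) (hzd : ∑ k, z k * deg k = 0) (hwd : ∑ k, w k * deg k = 0)
    (a b : κ) (hab : a ≠ b) (hak : a ≠ k₀) (hbk : b ≠ k₀) (hz0 : z k₀ = 1)
    (hza : z a = 1 ∨ z a = -1) (hzb : z b = 1 ∨ z b = -1)
    (hzrest : ∀ c, c ≠ k₀ → c ≠ a → c ≠ b → z c = 0)
    (c d : κ) (hcd : c ≠ d) (hck : c ≠ k₀) (hdk : d ≠ k₀) (hw0 : w k₀ = 1)
    (hwc : w c = 1 ∨ w c = -1) (hwd' : w d = 1 ∨ w d = -1)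
    (hwrest : ∀ e, e ≠ k₀ → e ≠ c → e ≠ d → w e = 0)
    (hwa : w a = z a) (hwb : w b = 0) :
    ∃ (y l l' : κ) (m ε : ℤ), (m = 1 ∨ m = -1) ∧ (ε = 1 ∨ ε = -1) ∧
      Form k₀ y l m ε z ∧ Form k₀ y l' m ε w ∧ l ≠ l' := by
  have hzsum : 1 + z a * deg a + z b * deg b = 0 := by
    have := sum_three (fun k => z k * deg k) hak.symm hbk.symm hab (fun e h1 h2 h3 => by
      simp only [hzrest e h1 h2 h3, zero_mul])
    simp only [hz0, hd0] at this
    linarith
  have hacd : a = c ∨ a = d := by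
    by_contra h
    push Not at h
    have := hwrest a hak h.1 h.2
    rw [hwa] at this
    rcases hza with h1 | h1 <;> omega
  have hε : (-z b = 1 ∨ -z b = -1) := by rcases hzb with h | h <;> omega
  rcases hacd with hac | had
  · -- l' = d
    have hdb : d ≠ b := by
      intro h
      rw [h] at hwd'
      omega
    have hwsum : 1 + w a * deg a + w d * deg d = 0 := by
      have := sum_three (fun k => w k * deg k) hak.symm hdk.symm (hac ▸ hcd) (fun e h1 h2 h3 => by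
        simp only [hwrest e h1 (hac ▸ h2) h3, zero_mul])
      simp only [hw0, hd0] at this
      linarith
    have hsign : z b = w d := by
      apply sign_eq_of_mul_pos hzb hwd' (hdeg b) (hdeg d)
      rw [hwa] at hwsum
      linarith
    refine ⟨a, b, d, z a, -z b, hza, hε, ⟨hak, hbk, hab.symm, hz0, rfl, by ring, hzrest⟩,
      ⟨hak, hdk, (hac ▸ hcd).symm, hw0, hwa, by rw [← hsign]; ring, ?_⟩, hdb.symm⟩
    intro e h1 h2 h3
    exact hwrest e h1 (hac ▸ h2) h3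
  · -- l' = c
    have hcb : c ≠ b := by
      intro h
      rw [h] at hwc
      omega
    have hwsum : 1 + w a * deg a + w c * deg c = 0 := by
      have := sum_three (fun k => w k * deg k) hak.symm hck.symm (had ▸ hcd.symm)
        (fun e h1 h2 h3 => by simp only [hwrest e h1 h3 (had ▸ h2), zero_mul])
      simp only [hw0, hd0] at this
      linarith
    have hsign : z b = w c := by
      apply sign_eq_of_mul_pos hzb hwc (hdeg b) (hdeg c)
      rw [hwa] at hwsum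
      linarith
    refine ⟨a, b, c, z a, -z b, hza, hε, ⟨hak, hbk, hab.symm, hz0, rfl, by ring, hzrest⟩,
      ⟨hak, hck, (had ▸ hcd), hw0, hwa, by rw [← hsign]; ring, ?_⟩, hcb.symm⟩
    intro e h1 h2 h3
    exact hwrest e h1 h3 (had ▸ h2)

/-- The pair lemma. -/
theorem pair (deg : κ → ℤ) (hdeg : ∀ k, 0 < deg k) (k₀ : κ) (hd0 : deg k₀ = 1)
    (z w : κ → ℤ) (hz0 : z k₀ = 1) (hw0 : w k₀ = 1)
    (hzz : ∑ k, z k ^ 2 = 3) (hww : ∑ k, w k ^ 2 = 3) (hzw : ∑ k, z k * w k = 2)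
    (hzd : ∑ k, z k * deg k = 0) (hwd : ∑ k, w k * deg k = 0) :
    ∃ (y l l' : κ) (m ε : ℤ), (m = 1 ∨ m = -1) ∧ (ε = 1 ∨ ε = -1) ∧
      Form k₀ y l m ε z ∧ Form k₀ y l' m ε w ∧ l ≠ l' := by
  obtain ⟨a, b, hab, hak, hbk, hza, hzb, hzrest⟩ := support_of_norm_three z k₀ hz0 hzz
  obtain ⟨c, d, hcd, hck, hdk, hwc, hwd', hwrest⟩ := support_of_norm_three w k₀ hw0 hww
  have hov : z a * w a + z b * w b = 1 := by
    have := sum_three (fun k => z k * w k) hak.symm hbk.symm hab (fun e h1 h2 h3 => by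
      simp only [hzrest e h1 h2 h3, zero_mul])
    simp only [hz0, hw0] at this
    linarith
  have hwval : ∀ k, k ≠ k₀ → (w k = 0 ∨ w k = 1 ∨ w k = -1) := by
    intro k hk
    by_cases h1 : k = c
    · rw [h1]; rcases hwc with h | h <;> omega
    · by_cases h2 : k = d
      · rw [h2]; rcases hwd' with h | h <;> omega
      · left; exact hwrest k hk h1 h2
  have hcases : (w a = z a ∧ w b = 0) ∨ (w a = 0 ∧ w b = z b) := by
    rcases hwval a hak with h1 | h1 | h1 <;> rcases hwval b hbk with h2 | h2 | h2 <;>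
      rcases hza with h3 | h3 <;> rcases hzb with h4 | h4 <;>
      rw [h1, h2, h3, h4] at hov <;> first | omega | (left; omega) | (right; omega)
  rcases hcases with ⟨h1, h2⟩ | ⟨h1, h2⟩
  · exact pair_aux deg hdeg k₀ hd0 z w hzd hwd a b hab hak hbk hz0 hza hzb hzrest c d hcd hck hdk
      hw0 hwc hwd' hwrest h1 h2
  · exact pair_aux deg hdeg k₀ hd0 z w hzd hwd b a hab.symm hbk hak hz0 hzb hza
      (fun e h1 h2 h3 => hzrest e h1 h3 h2) c d hcd hck hdk hw0 hwc hwd' hwrest h2 h1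

/-- The third vector. -/
theorem third (deg : κ → ℤ) (hdeg : ∀ k, 0 < deg k) (k₀ : κ) (hd0 : deg k₀ = 1)
    (z w v : κ → ℤ) (y l l' : κ) (m ε : ℤ) (hm : m = 1 ∨ m = -1) (hε : ε = 1 ∨ ε = -1)
    (hz : Form k₀ y l m ε z) (hw : Form k₀ y l' m ε w) (hll : l ≠ l')
    (hzz : ∑ k, z k ^ 2 = 3) (hww : ∑ k, w k ^ 2 = 3)
    (hzd : ∑ k, z k * deg k = 0) (hwd : ∑ k, w k * deg k = 0)
    (hv0 : v k₀ = 1) (hvv : ∑ k, v k ^ 2 = 3) (hvd : ∑ k, v k * deg k = 0)
    (hvz : ∑ k, v k * z k = 3 ∨ ∑ k, v k * z k = 2)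
    (hvw : ∑ k, v k * w k = 3 ∨ ∑ k, v k * w k = 2) :
    ∃ l'' : κ, Form k₀ y l'' m ε v := by
  rcases hvz with h3 | hvz2
  · have := eq_of_inner_eq_norm v z hvv hzz h3
    refine ⟨l, hz.1, hz.2.1, hz.2.2.1, ?_, ?_, ?_, ?_⟩
    · rw [this]; exact hz.2.2.2.1
    · rw [this]; exact hz.2.2.2.2.1
    · rw [this]; exact hz.2.2.2.2.2.1
    · intro c h1 h2 h3'
      rw [this]; exact hz.2.2.2.2.2.2 c h1 h2 h3'
  rcases hvw with h3 | hvw2
  · have := eq_of_inner_eq_norm v w hvv hww h3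
    refine ⟨l', hw.1, hw.2.1, hw.2.2.1, ?_, ?_, ?_, ?_⟩
    · rw [this]; exact hw.2.2.2.1
    · rw [this]; exact hw.2.2.2.2.1
    · rw [this]; exact hw.2.2.2.2.2.1
    · intro c h1 h2 h3'
      rw [this]; exact hw.2.2.2.2.2.2 c h1 h2 h3'
  obtain ⟨hyk, hlk, hly, hz0, hzy, hzl, hzrest⟩ := hz
  obtain ⟨-, hl'k, hl'y, hw0, hwy, hwl', hwrest⟩ := hw
  have e1 : 1 + m * v y - ε * v l = 2 := by
    have := sum_three (fun k => v k * z k) hyk.symm hlk.symm hly.symm (fun e h1 h2 h3 => by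
      simp only [hzrest e h1 h2 h3, mul_zero])
    simp only [hz0, hzy, hzl, hv0] at this
    rw [hvz2] at this
    linarith
  have e2 : 1 + m * v y - ε * v l' = 2 := by
    have := sum_three (fun k => v k * w k) hyk.symm hl'k.symm hl'y.symm (fun e h1 h2 h3 => by
      simp only [hwrest e h1 h2 h3, mul_zero])
    simp only [hw0, hwy, hwl', hv0] at this
    rw [hvw2] at this
    linarith
  have hzsum : 1 + m * deg y - ε * deg l = 0 := by
    have := sum_three (fun k => z k * deg k) hyk.symm hlk.symm hly.symm (fun e h1 h2 h3 => by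
      simp only [hzrest e h1 h2 h3, zero_mul])
    simp only [hz0, hzy, hzl, hd0] at this
    rw [hzd] at this
    linarith
  have hwsum : 1 + m * deg y - ε * deg l' = 0 := by
    have := sum_three (fun k => w k * deg k) hyk.symm hl'k.symm hl'y.symm (fun e h1 h2 h3 => by
      simp only [hwrest e h1 h2 h3, zero_mul])
    simp only [hw0, hwy, hwl', hd0] at this
    rw [hwd] at this
    linarith
  obtain ⟨a, b, hab, hak, hbk, hva, hvb, hvrest⟩ := support_of_norm_three v k₀ hv0 hvv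
  have hvsum : 1 + v a * deg a + v b * deg b = 0 := by
    have := sum_three (fun k => v k * deg k) hak.symm hbk.symm hab (fun e h1 h2 h3 => by
      simp only [hvrest e h1 h2 h3, zero_mul])
    simp only [hv0, hd0] at this
    rw [hvd] at this
    linarith
  have hvval : ∀ k, k ≠ k₀ → (v k = 0 ∨ v k = 1 ∨ v k = -1) := by
    intro k hk
    by_cases h1 : k = a
    · rw [h1]; rcases hva with h | h <;> omega
    · by_cases h2 : k = b
      · rw [h2]; rcases hvb with h | h <;> omega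
      · left; exact hvrest k hk h1 h2
  have hmem : ∀ k, k ≠ k₀ → v k ≠ 0 → k = a ∨ k = b := by
    intro k hk hne
    by_contra h
    push Not at h
    exact hne (hvrest k hk h.1 h.2)
  have hcases : (v y = m ∧ v l = 0 ∧ v l' = 0) ∨ (v y = 0 ∧ v l = -ε ∧ v l' = -ε) := by
    rcases hm with rfl | rfl <;> rcases hε with rfl | rfl <;>
      rcases hvval y hyk with h1 | h1 | h1 <;> rcases hvval l hlk with h2 | h2 | h2 <;>
      rcases hvval l' hl'k with h3 | h3 | h3 <;> rw [h1, h2] at e1 <;> rw [h1, h3] at e2 <;>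
      first | omega | (left; omega) | (right; omega)
  rcases hcases with ⟨hvy, hvl, hvl'⟩ | ⟨hvy, hvl, hvl'⟩
  · have hy0 : v y ≠ 0 := by rw [hvy]; rcases hm with h | h <;> omega
    have hnegε : (-ε = 1 ∨ -ε = -1) := by rcases hε with h | h <;> omega
    rcases hmem y hyk hy0 with hya | hyb
    · refine ⟨b, hyk, hbk, by rw [hya]; exact hab.symm, hv0, hvy, ?_, ?_⟩
      · apply sign_eq_of_mul_pos hvb hnegε (hdeg b) (hdeg l)
        rw [← hya, hvy] at hvsum
        linarith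
      · intro c h1 h2 h3
        exact hvrest c h1 (hya ▸ h2) h3
    · refine ⟨a, hyk, hak, by rw [hyb]; exact hab, hv0, hvy, ?_, ?_⟩
      · apply sign_eq_of_mul_pos hva hnegε (hdeg a) (hdeg l)
        rw [← hyb, hvy] at hvsum
        linarith
      · intro c h1 h2 h3
        exact hvrest c h1 h3 (hyb ▸ h2)
  · exfalso
    have hl0 : v l ≠ 0 := by rw [hvl]; rcases hε with h | h <;> omega
    have hl'0 : v l' ≠ 0 := by rw [hvl']; rcases hε with h | h <;> omega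
    have hdl := hdeg l
    have hdl' := hdeg l'
    rcases hmem l hlk hl0 with hla | hlb <;> rcases hmem l' hl'k hl'0 with hl'a | hl'b
    · exact hll (hla.trans hl'a.symm)
    · rw [← hla, ← hl'b, hvl, hvl'] at hvsum
      rcases hε with rfl | rfl <;> omega
    · rw [← hlb, ← hl'a, hvl, hvl'] at hvsum
      rcases hε with rfl | rfl <;> omega
    · exact hll (hlb.trans hl'b.symm)

/-- The whole family. -/
theorem family {Ω : Type*} (deg : κ → ℤ) (hdeg : ∀ k, 0 < deg k) (k₀ : κ) (hd0 : deg k₀ = 1)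
    (Z : Ω → κ → ℤ) (h0 : ∀ i, Z i k₀ = 1) (hn : ∀ i, ∑ k, Z i k ^ 2 = 3)
    (hd : ∀ i, ∑ k, Z i k * deg k = 0)
    (hg : ∀ i j, ∑ k, Z i k * Z j k = 3 ∨ ∑ k, Z i k * Z j k = 2)
    (i₁ i₂ : Ω) (h12 : ∑ k, Z i₁ k * Z i₂ k = 2) :
    ∃ (y : κ) (m ε : ℤ), (m = 1 ∨ m = -1) ∧ (ε = 1 ∨ ε = -1) ∧ y ≠ k₀ ∧
      ∀ i, ∃ l, Form k₀ y l m ε (Z i) := by
  obtain ⟨y, l, l', m, ε, hm, hε, hz, hw, hll⟩ := pair deg hdeg k₀ hd0 (Z i₁) (Z i₂) (h0 i₁)
    (h0 i₂) (hn i₁) (hn i₂) h12 (hd i₁) (hd i₂)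
  refine ⟨y, m, ε, hm, hε, hz.1, ?_⟩
  intro i
  exact third deg hdeg k₀ hd0 (Z i₁) (Z i₂) (Z i) y l l' m ε hm hε hz hw hll (hn i₁) (hn i₂)
    (hd i₁) (hd i₂) (h0 i) (hn i) (hd i) (hg i i₁) (hg i i₂)

end Cfsg.Agent.Lib.Helper5.DihN
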