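import Mathlib
import Cfsg.Prelude.Def_Characters
import Cfsg.Agent.Lib.helper3.Degrees
import Cfsg.Agent.Lib.Helper7.BrP4
import Cfsg.Agent.Lib.Helper5.DihN.Vec

set_option autoImplicit false
set_option linter.style.haveILetI false
set_option linter.unusedSectionVars false
set_option linter.unusedVariables false

/-!
# The exceptional characters of a self-centralizing subgroup of prime order with dihedral
normalizer: structure of the induced generalized characters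
-/

namespace Cfsg.Agent.Lib.Helper5.DihN

open Cfsg Cfsg.Agent.Lib.helper3.Irr Cfsg.Agent.Lib.helper3.CharBasic
open Cfsg.Agent.Lib.helper3.IndFun Cfsg.Agent.Lib.helper3.CycTI
open Cfsg.Agent.Lib.Helper7.BrP
open scoped ComplexConjugate

variable {G : Type*} [Group G] [Fintype G] (P : Subgroup G)

theorem sum_three' {κ : Type*} [Fintype κ] [DecidableEq κ] {M : Type*} [AddCommGroup M]
    (f : κ → M) {x y w : κ} (hxy : x ≠ y) (hxw : x ≠ w) (hyw : y ≠ w)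
    (h : ∀ c, c ≠ x → c ≠ y → c ≠ w → f c = 0) : ∑ k, f k = f x + f y + f w := by
  rw [← Finset.add_sum_erase Finset.univ f (Finset.mem_univ x)]
  rw [← Finset.add_sum_erase (Finset.univ.erase x) f
    (Finset.mem_erase.mpr ⟨hxy.symm, Finset.mem_univ y⟩)]
  rw [← Finset.add_sum_erase ((Finset.univ.erase x).erase y) f
    (Finset.mem_erase.mpr ⟨hyw.symm, Finset.mem_erase.mpr ⟨hxw.symm, Finset.mem_univ w⟩⟩)]
  have h0 : ∑ k ∈ ((Finset.univ.erase x).erase y).erase w, f k = 0 := by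
    apply Finset.sum_eq_zero
    intro c hc
    simp only [Finset.mem_erase, Finset.mem_univ, and_true] at hc
    exact h c hc.2.2 hc.2.1 hc.1
  rw [h0]
  abel

/-- The induced function vanishes away from the conjugates of the nonidentity elements. -/
theorem Xi_apply_eq_zero (ω : P →* ℂˣ) (g : G)
    (hg : ∀ x : G, x⁻¹ * g * x ∈ P → x⁻¹ * g * x = 1) : Xi P ω g = 0 := by
  unfold Xi
  rw [indFun_apply, Finset.sum_eq_zero, mul_zero]
  intro x _
  by_cases hx : x⁻¹ * g * x ∈ P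
  · rw [hg x hx, extendByZero_mem P _ P.one_mem]
    have : (⟨1, P.one_mem⟩ : P) = 1 := rfl
    rw [this, Pi.sub_apply, linFun_apply_one, linFun_apply_one, sub_self]
  · exact extendByZero_not_mem P _ hx

/-- Two linear characters in different orbits of the normalizer. -/
theorem exists_two_orbits [Finite G] {p : ℕ} (hp : p.Prime) (h5 : 5 ≤ p) (hP : Nat.card P = p)
    (hC : ∀ x ∈ P, x ≠ 1 → ∀ g : G, g * x = x * g → g ∈ P)
    (hN : Nat.card (Subgroup.normalizer (P : Set G)) = p * 2) :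
    ∃ ω₁ ω₂ : P →* ℂˣ, ω₁ ≠ 1 ∧ ω₂ ≠ 1 ∧
      ∀ n : Subgroup.normalizer (P : Set G), ω₁ ≠ cj P n ω₂ := by
  classical
  haveI := finite_dual P hp hP
  letI : Fintype (Quotient (orbSetoid P)) := Fintype.ofFinite _
  have h1 := card_orbits P hp hP hC 2 hN
  rw [Nat.card_eq_fintype_card] at h1
  have h2 : 1 < Fintype.card (Quotient (orbSetoid P)) := by omega
  obtain ⟨q₁, q₂, hq⟩ := Fintype.exists_pair_of_one_lt_card h2
  obtain ⟨a₁, rfl⟩ := Quotient.exists_rep q₁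
  obtain ⟨a₂, rfl⟩ := Quotient.exists_rep q₂
  refine ⟨a₁.1, a₂.1, a₁.2, a₂.2, ?_⟩
  intro n hn
  apply hq
  apply Quotient.sound
  exact ⟨n, hn⟩

/-- **Structure theorem**: every `Ξ_ω` is `1 + m Y - ε Λ_ω`. -/
theorem structure_thm {p : ℕ} (hp : p.Prime) (h5 : 5 ≤ p) (hP : Nat.card P = p)
    (hC : ∀ x ∈ P, x ≠ 1 → ∀ g : G, g * x = x * g → g ∈ P)
    (hN : Nat.card (Subgroup.normalizer (P : Set G)) = p * 2) :
    ∃ (Y : IrrCharacter G) (m ε : ℤ), (m = 1 ∨ m = -1) ∧ (ε = 1 ∨ ε = -1) ∧ Y ≠ trivIrr G ∧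
      ∀ ω : P →* ℂˣ, ω ≠ 1 → ∃ l : IrrCharacter G, l ≠ trivIrr G ∧ l ≠ Y ∧
        (∀ g : G, Xi P ω g = 1 + (m : ℂ) * (Y : G → ℂ) g - (ε : ℂ) * (l : G → ℂ) g) ∧
        (∀ ψ : IrrCharacter G, ψ ≠ trivIrr G → ψ ≠ Y → ψ ≠ l →
          classInner (Xi P ω) (ψ : G → ℂ) = 0) ∧
        classInner (Xi P ω) (Y : G → ℂ) = m := by
  classical
  letI : Fintype P := Fintype.ofFinite P
  have hex : ∀ ω : P →* ℂˣ, ∃ z : IrrCharacter G → ℤ,
      Xi P ω = ∑ ψ : IrrCharacter G, (z ψ : ℂ) • (ψ : G → ℂ) :=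
    fun ω => exists_int_decomposition (Xi_isGeneralizedCharacter P ω)
  choose Z hZ using hex
  have hin : ∀ ω (ψ : IrrCharacter G), classInner (Xi P ω) (ψ : G → ℂ) = Z ω ψ := by
    intro ω ψ
    conv_lhs => rw [hZ ω]
    exact classInner_decomposition_left (fun ψ => (Z ω ψ : ℂ)) ψ
  have hdegex : ∀ ψ : IrrCharacter G, ∃ n : ℕ, 0 < n ∧ (ψ : G → ℂ) 1 = n :=
    fun ψ => exists_pos_nat_apply_one ψ.2
  choose dg hdgpos hdg using hdegex
  have h0 : ∀ ω : P →* ℂˣ, ω ≠ 1 → Z ω (trivIrr G) = 1 := by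
    intro ω hω
    have h1 := hin ω (trivIrr G)
    have h3 : ((trivIrr G : IrrCharacter G) : G → ℂ) = fun _ => 1 := rfl
    rw [h3, classInner_Xi_one P hω] at h1
    have : ((1 : ℤ) : ℂ) = (Z ω (trivIrr G) : ℂ) := by rw [← h1]; simp
    exact (Int.cast_injective this).symm
  have hgram : ∀ ω ω' : P →* ℂˣ,
      classInner (Xi P ω) (Xi P ω') = ((∑ ψ, Z ω ψ * Z ω' ψ : ℤ) : ℂ) := by
    intro ω ω'
    conv_lhs => rw [hZ ω, hZ ω']
    exact classInner_int_decomposition _ _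
  have hg : ∀ ω ω' : P →* ℂˣ, ω ≠ 1 → ω' ≠ 1 →
      (∑ ψ, Z ω ψ * Z ω' ψ = 3 ∨ ∑ ψ, Z ω ψ * Z ω' ψ = 2) := by
    intro ω ω' hω hω'
    obtain ⟨hg1, hg2⟩ := gram_eq P hp hP hC 2 hN hω hω'
    by_cases h : ∃ n₀ : Subgroup.normalizer (P : Set G), ω = cj P n₀ ω'
    · obtain ⟨n₀, hn₀⟩ := h
      left
      have h1 := hg1 n₀ hn₀
      have h2 : ((∑ ψ, Z ω ψ * Z ω' ψ : ℤ) : ℂ) = ((3 : ℤ) : ℂ) := by
        rw [← hgram]
        show classInner (indFun P _) (indFun P _) = _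
        rw [h1]
        norm_num
      exact Int.cast_injective h2
    · push Not at h
      right
      have h1 := hg2 h
      have h2 : ((∑ ψ, Z ω ψ * Z ω' ψ : ℤ) : ℂ) = ((2 : ℤ) : ℂ) := by
        rw [← hgram]
        show classInner (indFun P _) (indFun P _) = _
        rw [h1]
        norm_num
      exact Int.cast_injective h2
  have hn : ∀ ω : P →* ℂˣ, ω ≠ 1 → ∑ ψ, Z ω ψ ^ 2 = 3 := by
    intro ω hω
    have h1 := (gram_eq P hp hP hC 2 hN hω hω).1 1 (cj_one_left P ω).symm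
    have h2 : ((∑ ψ, Z ω ψ * Z ω ψ : ℤ) : ℂ) = ((3 : ℤ) : ℂ) := by
      rw [← hgram]
      show classInner (indFun P _) (indFun P _) = _
      rw [h1]
      norm_num
    have h3 := Int.cast_injective h2
    rw [← h3]
    apply Finset.sum_congr rfl
    intro ψ _
    ring
  have hd : ∀ ω : P →* ℂˣ, ∑ ψ, Z ω ψ * (dg ψ : ℤ) = 0 := by
    intro ω
    have h1 := congrFun (hZ ω) 1
    rw [Xi_apply_one] at h1
    simp only [Finset.sum_apply, Pi.smul_apply, smul_eq_mul, hdg] at h1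
    have h2 : ((∑ ψ, Z ω ψ * (dg ψ : ℤ) : ℤ) : ℂ) = ((0 : ℤ) : ℂ) := by
      push_cast
      exact h1.symm
    exact Int.cast_injective h2
  have hd0 : ((dg (trivIrr G) : ℕ) : ℤ) = 1 := by
    have h1 := hdg (trivIrr G)
    have h3 : ((trivIrr G : IrrCharacter G) : G → ℂ) 1 = 1 := rfl
    rw [h3] at h1
    have : ((1 : ℕ) : ℂ) = (dg (trivIrr G) : ℂ) := by rw [← h1]; simp
    have := Nat.cast_injective this
    omega
  obtain ⟨ω₁, ω₂, hω₁, hω₂, hne⟩ := exists_two_orbits P hp h5 hP hC hN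
  have h12 : ∑ ψ, Z ω₁ ψ * Z ω₂ ψ = 2 := by
    have h1 := (gram_eq P hp hP hC 2 hN hω₁ hω₂).2 hne
    have h2 : ((∑ ψ, Z ω₁ ψ * Z ω₂ ψ : ℤ) : ℂ) = ((2 : ℤ) : ℂ) := by
      rw [← hgram]
      show classInner (indFun P _) (indFun P _) = _
      rw [h1]
      norm_num
    exact Int.cast_injective h2
  obtain ⟨Y, m, ε, hm, hε, hY, hform⟩ := family (Ω := {ω : P →* ℂˣ // ω ≠ 1})
    (fun ψ : IrrCharacter G => ((dg ψ : ℕ) : ℤ)) (fun ψ => by exact_mod_cast hdgpos ψ)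
    (trivIrr G) hd0 (fun a => Z a.1) (fun a => h0 a.1 a.2) (fun a => hn a.1 a.2)
    (fun a => hd a.1) (fun a b => hg a.1 b.1 a.2 b.2) ⟨ω₁, hω₁⟩ ⟨ω₂, hω₂⟩ h12
  refine ⟨Y, m, ε, hm, hε, hY, ?_⟩
  intro ω hω
  obtain ⟨l, hyk, hlk, hly, hz0, hzy, hzl, hzrest⟩ := hform ⟨ω, hω⟩
  simp only at hz0 hzy hzl hzrest
  refine ⟨l, hlk, hly, ?_, ?_, ?_⟩
  · intro g
    have h1 := congrFun (hZ ω) g
    rw [h1]
    simp only [Finset.sum_apply, Pi.smul_apply, smul_eq_mul]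
    rw [sum_three' (fun ψ : IrrCharacter G => (Z ω ψ : ℂ) * (ψ : G → ℂ) g) hyk.symm hlk.symm
      hly.symm (fun c h1 h2 h3 => by rw [hzrest c h1 h2 h3]; simp)]
    rw [hz0, hzy, hzl]
    have h3 : ((trivIrr G : IrrCharacter G) : G → ℂ) g = 1 := rfl
    rw [h3]
    push_cast
    ring
  · intro ψ h1 h2 h3
    rw [hin, hzrest ψ h1 h2 h3]
    simp
  · rw [hin, hzy]

end Cfsg.Agent.Lib.Helper5.DihN
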