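import Mathlib
import Cfsg.Prelude.Def_Characters
import Cfsg.Agent.Lib.helper3.Irr7
import Cfsg.Agent.Lib.helper3.PConj
import Cfsg.Agent.Lib.Helper7.BrP5
import Cfsg.Agent.Lib.Helper5.DihN.Struct

set_option autoImplicit false
set_option linter.style.haveILetI false
set_option linter.unusedSectionVars false
set_option linter.unusedVariables false

/-!
# Bessel's inequality against the exceptional characters of a dihedral normalizer

If `Ξ_ω = 1 - Y + Λ_ω` for all `ω ≠ 1` and `σ` is a class function vanishing on `P ∖ 1` with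
`⟨σ, 1⟩ = 0` and `⟨σ, Y⟩ = 2`, then `⟨σ, Λ_ω⟩ = 2` for the `(p - 1) / 2` exceptional characters, so
`‖σ‖² ≥ 4 + 2 (p - 1) = 2 (p + 1)`.
-/

namespace Cfsg.Agent.Lib.Helper5.DihN

open Cfsg Cfsg.Agent.Lib.helper3.Irr Cfsg.Agent.Lib.helper3.CharBasic
open Cfsg.Agent.Lib.helper3.IndFun Cfsg.Agent.Lib.helper3.CycTI
open Cfsg.Agent.Lib.Helper7.BrP
open scoped ComplexConjugate

variable {G : Type*} [Group G] [Fintype G] (P : Subgroup G)

/-- A class function vanishing on `P ∖ 1` is orthogonal to every `Ξ_ω`. -/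
theorem classInner_Xi_of_vanish [Fintype P] (σ : G → ℂ) (hσ : IsClassFunction G σ)
    (hσP : ∀ x ∈ P, x ≠ 1 → σ x = 0) (ω : P →* ℂˣ) : classInner (Xi P ω) σ = 0 := by
  classical
  rw [classInner_Xi P ω σ hσ]
  have key : ∀ ω' : P →* ℂˣ, classInner (linFun ω') (fun x : P => σ x) =
      (Nat.card P : ℂ)⁻¹ * conj (σ 1) := by
    intro ω'
    rw [classInner_apply]
    congr 1
    rw [Finset.sum_eq_single (1 : P)]
    · rw [linFun_apply_one, one_mul]
      rfl
    · intro x _ hx
      have hx1 : (x : G) ≠ 1 := fun h => hx (Subtype.ext h)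
      rw [hσP x x.2 hx1, map_zero, mul_zero]
    · intro h
      exact absurd (Finset.mem_univ _) h
  rw [key 1, key ω, sub_self]

/-- **Bessel** against `Y` and the exceptional characters. -/
theorem bessel_exceptional {p : ℕ} (hp : p.Prime) (h5 : 5 ≤ p) (hP : Nat.card P = p)
    (hC : ∀ x ∈ P, x ≠ 1 → ∀ g : G, g * x = x * g → g ∈ P)
    (hN : Nat.card (Subgroup.normalizer (P : Set G)) = p * 2)
    (Y : IrrCharacter G)
    (hΞ : ∀ ω : P →* ℂˣ, ω ≠ 1 → ∃ l : IrrCharacter G, l ≠ Y ∧
      ∀ g : G, Xi P ω g = 1 - (Y : G → ℂ) g + (l : G → ℂ) g)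
    (σ : G → ℂ) (hσ : IsClassFunction G σ) (hσP : ∀ x ∈ P, x ≠ 1 → σ x = 0)
    (hs0 : classInner σ (fun _ => 1) = 0) (hs1 : classInner σ (Y : G → ℂ) = 2) :
    ∃ r : ℝ, classInner σ σ = (r : ℂ) ∧ 2 * ((p : ℝ) + 1) ≤ r := by
  classical
  letI : Fintype P := Fintype.ofFinite P
  haveI := finite_dual P hp hP
  letI : Fintype {ω : P →* ℂˣ // ω ≠ 1} := Fintype.ofFinite _
  have hΞ' : ∀ a : {ω : P →* ℂˣ // ω ≠ 1}, ∃ l : IrrCharacter G, l ≠ Y ∧
      ∀ g : G, Xi P a.1 g = 1 - (Y : G → ℂ) g + (l : G → ℂ) g := fun a => hΞ a.1 a.2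
  choose L hLY hL using hΞ'
  -- the inner products with the exceptional characters
  have hLfun : ∀ a, ((L a : IrrCharacter G) : G → ℂ) =
      Xi P a.1 - (fun _ => (1 : ℂ)) + (Y : G → ℂ) := by
    intro a
    funext g
    simp only [Pi.add_apply, Pi.sub_apply]
    rw [hL a g]
    ring
  have hsL : ∀ a, classInner σ ((L a : IrrCharacter G) : G → ℂ) = 2 := by
    intro a
    rw [hLfun a, classInner_add_right, classInner_sub_right, hs0, hs1,
      ← classInner_conj_symm, classInner_Xi_of_vanish P σ hσ hσP, map_zero]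
    ring
  -- the fibres of `L` lie in orbits
  have hfib : ∀ a b, L a = L b → (orbSetoid P).r a b := by
    intro a b hab
    by_contra hne
    have hne' : ∀ n₀ : Subgroup.normalizer (P : Set G), a.1 ≠ cj P n₀ b.1 := by
      intro n₀ h
      exact hne ⟨n₀, h⟩
    obtain ⟨-, hg2⟩ := gram_eq P hp hP hC 2 hN a.2 b.2
    obtain ⟨hg1, -⟩ := gram_eq P hp hP hC 2 hN b.2 b.2
    have h2 := hg2 hne'
    have h3 := hg1 1 (cj_one_left P _).symm
    have hXi : Xi P a.1 = Xi P b.1 := by
      funext g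
      rw [hL a g, hL b g, hab]
    have h2' : classInner (Xi P a.1) (Xi P b.1) = ((2 : ℕ) : ℂ) := h2
    have h3' : classInner (Xi P b.1) (Xi P b.1) = ((2 : ℕ) : ℂ) + 1 := h3
    rw [hXi, h3'] at h2'
    norm_num at h2'
  have hcard : p - 1 ≤ 2 * (Finset.univ.image L).card := by
    rw [← card_dual_ne_one P hp hP, Nat.card_eq_fintype_card, ← Finset.card_univ]
    apply Finset.card_le_mul_card_image
    intro b hb
    obtain ⟨a₀, -, rfl⟩ := Finset.mem_image.mp hb
    have h2 := card_orbit P hp hP hC 2 hN a₀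
    rw [Nat.card_eq_fintype_card, Fintype.card_subtype] at h2
    rw [← h2]
    apply Finset.card_le_card
    intro a ha
    simp only [Finset.mem_filter, Finset.mem_univ, true_and] at ha ⊢
    exact hfib a a₀ ha
  -- Parseval
  have hpars := Cfsg.Agent.Lib.helper3.PConj.classInner_self_eq_sum σ hσ
  have hterm : ∀ ψ : IrrCharacter G,
      classInner σ (ψ : G → ℂ) * conj (classInner σ (ψ : G → ℂ)) =
        ((Complex.normSq (classInner σ (ψ : G → ℂ)) : ℝ) : ℂ) := by
    intro ψ
    rw [Complex.mul_conj]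
  refine ⟨∑ ψ : IrrCharacter G, Complex.normSq (classInner σ (ψ : G → ℂ)), ?_, ?_⟩
  · rw [hpars]
    push_cast
    exact Finset.sum_congr rfl (fun ψ _ => hterm ψ)
  · set S : Finset (IrrCharacter G) := insert Y (Finset.univ.image L) with hS
    have hYnot : Y ∉ Finset.univ.image L := by
      intro h
      obtain ⟨a, -, ha⟩ := Finset.mem_image.mp h
      exact hLY a ha
    have hScard : S.card = (Finset.univ.image L).card + 1 := Finset.card_insert_of_notMem hYnot
    have hSval : ∀ ψ ∈ S, Complex.normSq (classInner σ (ψ : G → ℂ)) = 4 := by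
      intro ψ hψ
      rcases Finset.mem_insert.mp hψ with h | h
      · rw [h, hs1]; norm_num
      · obtain ⟨a, -, rfl⟩ := Finset.mem_image.mp h
        rw [hsL a]; norm_num
    have hsub : ∑ ψ ∈ S, Complex.normSq (classInner σ (ψ : G → ℂ)) ≤
        ∑ ψ : IrrCharacter G, Complex.normSq (classInner σ (ψ : G → ℂ)) :=
      Finset.sum_le_sum_of_subset_of_nonneg (Finset.subset_univ S)
        (fun ψ _ _ => Complex.normSq_nonneg _)
    rw [Finset.sum_congr rfl hSval, Finset.sum_const, nsmul_eq_mul, hScard] at hsub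
    refine le_trans ?_ hsub
    have hp1 : 1 ≤ p := hp.one_lt.le
    have hcardR : ((p : ℝ) - 1) ≤ 2 * ((Finset.univ.image L).card : ℝ) := by
      have := hcard
      have h' : ((p - 1 : ℕ) : ℝ) ≤ ((2 * (Finset.univ.image L).card : ℕ) : ℝ) := by
        exact_mod_cast this
      push_cast [hp1] at h'
      exact h'
    push_cast
    linarith

end Cfsg.Agent.Lib.Helper5.DihN
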