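import Mathlib
import Cfsg.Prelude.Def_Characters
import Cfsg.Agent.Lib.helper3.Irr7
import Cfsg.Agent.Lib.Helper7.BrP5
import Cfsg.Agent.Lib.Helper5.DihN.Struct

set_option autoImplicit false
set_option linter.style.haveILetI false
set_option linter.unusedSectionVars false
set_option linter.unusedVariables false

/-!
# The class multiplication sum for a self-centralizing subgroup of prime order with dihedral
normalizer
-/

namespace Cfsg.Agent.Lib.Helper5.DihN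

open Cfsg Cfsg.Agent.Lib.helper3.Irr Cfsg.Agent.Lib.helper3.CharBasic
open Cfsg.Agent.Lib.helper3.IndFun Cfsg.Agent.Lib.helper3.CycTI
open Cfsg.Agent.Lib.Helper7.BrP
open scoped ComplexConjugate

variable {G : Type*} [Group G] [Fintype G] (P : Subgroup G)

open scoped IsMulCommutative in
theorem sum_hom_apply_eq_zero' [Fintype P] [Fintype (P →* ℂˣ)] (hcomm : ∀ a b : P, a * b = b * a)
    (y : P) (hy : y ≠ 1) : ∑ ω : P →* ℂˣ, ((ω y : ℂˣ) : ℂ) = 0 := by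
  haveI : IsMulCommutative P := ⟨⟨hcomm⟩⟩
  haveI : NeZero ((Monoid.exponent P : ℕ) : ℂ) :=
    ⟨Nat.cast_ne_zero.mpr Monoid.exponent_ne_zero_of_finite⟩
  obtain ⟨β, hβ⟩ := CommGroup.exists_apply_ne_one_of_hasEnoughRootsOfUnity P ℂ hy
  have h := Cfsg.Agent.Lib.helper3.Pf4.sum_mul_hom_eq_zero β y hβ (fun _ => (1 : ℂ)) (fun _ => rfl)
  simpa using h

/-- A character having the same inner product `z` with all `Ξ_ω` takes the value `z` on the
nonidentity elements of `P`. -/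
theorem value_of_const {p : ℕ} (hp : p.Prime) (hP : Nat.card P = p)
    (ψ : G → ℂ) (hψ : IsCharacter G ψ) (z : ℤ)
    (hz : ∀ ω : P →* ℂˣ, ω ≠ 1 → classInner (Xi P ω) ψ = z) (x : G) (hxP : x ∈ P) (hx : x ≠ 1) :
    ψ x = z := by
  classical
  letI : Fintype P := Fintype.ofFinite P
  haveI := finite_dual P hp hP
  letI : Fintype (P →* ℂˣ) := Fintype.ofFinite _
  have hcomm : ∀ a b : P, a * b = b * a := fun a b =>
    Subtype.ext (comm_of_prime P hp hP a.2 b.2)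
  have hψP : IsCharacter P (fun x : P => ψ x) := isCharacter_restrict hψ P
  have hnat : ∀ ω : P →* ℂˣ, ∃ k : ℕ, classInner (fun x : P => ψ x) (linFun ω) = k := fun ω =>
    exists_nat_classInner_of_isCharacter hψP
      ⟨linFun ω, Cfsg.Agent.Lib.helper3.Pf4.isIrrCharacter_linFun ω⟩
  choose nn hnn using hnat
  have hnn' : ∀ ω : P →* ℂˣ, classInner (linFun ω) (fun x : P => ψ x) = nn ω := by
    intro ω
    rw [← classInner_conj_symm, hnn, Complex.conj_natCast]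
  have hdec := Cfsg.Agent.Lib.helper3.Pf4.isCharacter_eq_sum_hom hcomm hψP
  have h1 := congrFun hdec ⟨x, hxP⟩
  simp only [Finset.sum_apply, Pi.smul_apply, smul_eq_mul, hnn] at h1
  have hrel : ∀ ω : P →* ℂˣ, ω ≠ 1 → (nn ω : ℂ) = (nn 1 : ℂ) - z := by
    intro ω hω
    have h2 := hz ω hω
    rw [classInner_Xi P ω ψ (isClassFunction_of_isCharacter hψ), hnn', hnn'] at h2
    linear_combination -h2
  have hsum0 := sum_hom_apply_eq_zero' P hcomm ⟨x, hxP⟩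
    (by intro h; apply hx; exact congrArg Subtype.val h)
  rw [← Finset.add_sum_erase Finset.univ _ (Finset.mem_univ (1 : P →* ℂˣ))] at h1 hsum0
  have h3 : ∑ ω ∈ Finset.univ.erase (1 : P →* ℂˣ), (nn ω : ℂ) * linFun ω ⟨x, hxP⟩
      = ((nn 1 : ℂ) - z) * ∑ ω ∈ Finset.univ.erase (1 : P →* ℂˣ), ((ω ⟨x, hxP⟩ : ℂˣ) : ℂ) := by
    rw [Finset.mul_sum]
    apply Finset.sum_congr rfl
    intro ω hω
    rw [hrel ω (Finset.ne_of_mem_erase hω)]
    rfl
  rw [h3] at h1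
  have h4 : linFun (1 : P →* ℂˣ) ⟨x, hxP⟩ = 1 := by simp [linFun]
  have h5 : (((1 : P →* ℂˣ) ⟨x, hxP⟩ : ℂˣ) : ℂ) = 1 := by simp
  rw [h4] at h1
  rw [h5] at hsum0
  have h6 : ∑ ω ∈ Finset.univ.erase (1 : P →* ℂˣ), ((ω ⟨x, hxP⟩ : ℂˣ) : ℂ) = -1 := by
    linear_combination hsum0
  rw [h6] at h1
  rw [h1]
  ring

/-- **The class multiplication sum.** -/
theorem dihedral_sum {p : ℕ} (hp : p.Prime) (h5 : 5 ≤ p) (hP : Nat.card P = p)
    (hC : ∀ x ∈ P, x ≠ 1 → ∀ g : G, g * x = x * g → g ∈ P)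
    (hN : Nat.card (Subgroup.normalizer (P : Set G)) = p * 2) :
    ∃ (Y : IrrCharacter G) (m : ℤ) (d : ℕ), (m = 1 ∨ m = -1) ∧ Y ≠ trivIrr G ∧
      (Y : G → ℂ) 1 = d ∧ 0 < d ∧ (∀ x ∈ P, x ≠ 1 → (Y : G → ℂ) x = m) ∧
      ∀ x ∈ P, x ≠ 1 → ∀ s t : G, (∀ g : G, g⁻¹ * s * g ∈ P → g⁻¹ * s * g = 1) →
        (∀ g : G, g⁻¹ * t * g ∈ P → g⁻¹ * t * g = 1) →
        ∑ χ : IrrCharacter G, (χ : G → ℂ) s * (χ : G → ℂ) t * conj ((χ : G → ℂ) x)
            / (χ : G → ℂ) 1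
          = ((d : ℂ) - (Y : G → ℂ) s) * ((d : ℂ) - (Y : G → ℂ) t)
            / ((d : ℂ) * ((d : ℂ) + m)) := by
  classical
  obtain ⟨Y, m, ε, hm, hε, hY, hst⟩ := structure_thm P hp h5 hP hC hN
  obtain ⟨d, hdpos, hd⟩ := exists_pos_nat_apply_one Y.2
  have hYx : ∀ x ∈ P, x ≠ 1 → (Y : G → ℂ) x = m := fun x hxP hx =>
    value_of_const P hp hP Y (isCharacter_of_isIrrCharacter Y.2) m (fun ω hω => by
      obtain ⟨l, _, _, _, _, h⟩ := hst ω hω
      exact h) x hxP hx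
  refine ⟨Y, m, d, hm, hY, hd, hdpos, hYx, ?_⟩
  intro x hxP hx s t hs ht
  have h1off : ∀ g : G, g⁻¹ * (1 : G) * g ∈ P → g⁻¹ * 1 * g = 1 := by
    intro g _
    group
  have hε2 : (ε : ℂ) * ε = 1 := by rcases hε with h | h <;> rw [h] <;> norm_num
  have hε0 : (ε : ℂ) ≠ 0 := by rcases hε with h | h <;> rw [h] <;> norm_num
  have key : ∀ χ : IrrCharacter G, χ ≠ trivIrr G → χ ≠ Y → ((χ : G → ℂ) x = 0) ∨
      (∀ g : G, (∀ y : G, y⁻¹ * g * y ∈ P → y⁻¹ * g * y = 1) →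
        (χ : G → ℂ) g = (ε : ℂ) * (1 + (m : ℂ) * (Y : G → ℂ) g)) := by
    intro χ h1 h2
    by_cases hex : ∃ ω : P →* ℂˣ, ω ≠ 1 ∧ classInner (Xi P ω) (χ : G → ℂ) ≠ 0
    · right
      obtain ⟨ω, hω, hne⟩ := hex
      obtain ⟨l, hl1, hl2, hfun, hvan, _⟩ := hst ω hω
      have hχl : χ = l := by
        by_contra h
        exact hne (hvan χ h1 h2 h)
      intro g hg
      have h3 := hfun g
      rw [Xi_apply_eq_zero P ω g hg] at h3
      rw [hχl]
      linear_combination (ε : ℂ) * h3 - ((l : G → ℂ) g) * hε2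
    · left
      push Not at hex
      have := value_of_const P hp hP χ (isCharacter_of_isIrrCharacter χ.2) 0 (fun ω hω => by
        rw [hex ω hω]; simp) x hxP hx
      simpa using this
  have hne0 : (1 : ℂ) + (m : ℂ) * (d : ℂ) ≠ 0 := by
    obtain ⟨ω₁, _, hω₁, _, _⟩ := exists_two_orbits P hp h5 hP hC hN
    obtain ⟨l, hl1, hl2, hfun, _, _⟩ := hst ω₁ hω₁
    have h := hfun 1
    rw [Xi_apply_one] at h
    obtain ⟨D, hDpos, hD⟩ := exists_pos_nat_apply_one l.2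
    rw [hd, hD] at h
    intro h0
    have h4 : (ε : ℂ) * (D : ℂ) = 0 := by linear_combination h0 + h
    rcases mul_eq_zero.mp h4 with h5' | h5'
    · exact hε0 h5'
    · have : D = 0 := by exact_mod_cast h5'
      omega
  have hd0 : (d : ℂ) ≠ 0 := by
    have : d ≠ 0 := by omega
    exact_mod_cast this
  -- column orthogonality
  have hcol := (column_orthogonality (G := G) x 1).2 (by
    intro h
    exact hx (isConj_one_left.mp h))
  rw [sum_split Y hY] at hcol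
  have hT1 : ∀ g : G, ((trivIrr G : IrrCharacter G) : G → ℂ) g = 1 := fun _ => rfl
  have hrest1 : ∑ ψ : {ψ : IrrCharacter G // ψ ≠ trivIrr G ∧ ψ ≠ Y},
      ((ψ : IrrCharacter G) : G → ℂ) x * conj (((ψ : IrrCharacter G) : G → ℂ) 1)
      = ((ε : ℂ) * (1 + (m : ℂ) * (d : ℂ))) *
        ∑ ψ : {ψ : IrrCharacter G // ψ ≠ trivIrr G ∧ ψ ≠ Y}, ((ψ : IrrCharacter G) : G → ℂ) x := by
    rw [Finset.mul_sum]
    apply Finset.sum_congr rfl
    intro ψ _
    rcases key ψ.1 ψ.2.1 ψ.2.2 with h | h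
    · rw [h]; ring
    · rw [h 1 h1off, hd]
      simp only [map_mul, map_add, map_one, map_intCast, map_natCast]
      ring
  have hsumx : ∑ ψ : {ψ : IrrCharacter G // ψ ≠ trivIrr G ∧ ψ ≠ Y},
      ((ψ : IrrCharacter G) : G → ℂ) x = -(ε : ℂ) := by
    rw [hrest1, hT1, hT1, hYx x hxP hx, hd] at hcol
    simp only [map_one, map_natCast] at hcol
    have h6 : (1 + (m : ℂ) * (d : ℂ)) * (1 + (ε : ℂ) *
        ∑ ψ : {ψ : IrrCharacter G // ψ ≠ trivIrr G ∧ ψ ≠ Y}, ((ψ : IrrCharacter G) : G → ℂ) x)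
        = 0 := by
      linear_combination hcol
    have h7 := (mul_eq_zero.mp h6).resolve_left hne0
    linear_combination (ε : ℂ) * h7 - (∑ ψ : {ψ : IrrCharacter G // ψ ≠ trivIrr G ∧ ψ ≠ Y},
      ((ψ : IrrCharacter G) : G → ℂ) x) * hε2
  have hsumxc : ∑ ψ : {ψ : IrrCharacter G // ψ ≠ trivIrr G ∧ ψ ≠ Y},
      conj (((ψ : IrrCharacter G) : G → ℂ) x) = -(ε : ℂ) := by
    rw [← map_sum, hsumx]
    simp
  -- the main sum
  rw [sum_split Y hY]
  have hrest2 : ∑ ψ : {ψ : IrrCharacter G // ψ ≠ trivIrr G ∧ ψ ≠ Y},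
      ((ψ : IrrCharacter G) : G → ℂ) s * ((ψ : IrrCharacter G) : G → ℂ) t *
        conj (((ψ : IrrCharacter G) : G → ℂ) x) / ((ψ : IrrCharacter G) : G → ℂ) 1
      = ((ε : ℂ) * (1 + (m : ℂ) * (Y : G → ℂ) s) * (1 + (m : ℂ) * (Y : G → ℂ) t)
          / (1 + (m : ℂ) * (d : ℂ))) *
        ∑ ψ : {ψ : IrrCharacter G // ψ ≠ trivIrr G ∧ ψ ≠ Y},
          conj (((ψ : IrrCharacter G) : G → ℂ) x) := by
    rw [Finset.mul_sum]
    apply Finset.sum_congr rfl
    intro ψ _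
    rcases key ψ.1 ψ.2.1 ψ.2.2 with h | h
    · rw [h]; simp
    · rw [h 1 h1off, h s hs, h t ht, hd]
      have e1 : (ε : ℂ) * (1 + (m : ℂ) * (Y : G → ℂ) s) * ((ε : ℂ) * (1 + (m : ℂ) * (Y : G → ℂ) t))
          * conj (((ψ : IrrCharacter G) : G → ℂ) x) / ((ε : ℂ) * (1 + (m : ℂ) * (d : ℂ)))
          = ((ε : ℂ) * (1 + (m : ℂ) * (Y : G → ℂ) s) * (1 + (m : ℂ) * (Y : G → ℂ) t)
            / (1 + (m : ℂ) * (d : ℂ))) * conj (((ψ : IrrCharacter G) : G → ℂ) x) := by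
        field_simp
      exact e1
  have hKε : ∀ A B C : ℂ, (ε : ℂ) * A * B / C * (-(ε : ℂ)) = -(A * B / C) := by
    intro A B C
    have : (ε : ℂ) * A * B / C * (-(ε : ℂ)) = -((ε : ℂ) * ε) * (A * B / C) := by ring
    rw [this, hε2]
    ring
  rw [hrest2, hsumxc, hKε, hT1, hT1, hT1, hT1, hYx x hxP hx, hd]
  simp only [map_one, map_intCast]
  rcases hm with h' | h'
  · rw [h'] at hne0 ⊢
    simp only [Int.cast_one, one_mul] at hne0 ⊢
    have hdm : (d : ℂ) + 1 ≠ 0 := by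
      intro h
      apply hne0
      linear_combination h
    field_simp
    ring
  · rw [h'] at hne0 ⊢
    simp only [Int.cast_neg, Int.cast_one, neg_mul, one_mul] at hne0 ⊢
    have hdm : (d : ℂ) + -1 ≠ 0 := by
      intro h
      apply hne0
      linear_combination (-1 : ℂ) * h
    field_simp
    ring

end Cfsg.Agent.Lib.Helper5.DihN
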