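import Mathlib
import Cfsg.Prelude.Def_Characters
import Cfsg.Agent.Lib.helper3.ClassMul
import Cfsg.Agent.Lib.helper3.PDeg5
import Cfsg.Agent.Lib.Helper7.BrP6
import Cfsg.Agent.Lib.Helper5.DihN.Sum

set_option autoImplicit false
set_option linter.style.haveILetI false
set_option linter.unusedSectionVars false
set_option linter.unusedVariables false

/-!
# A simple group with a self-centralizing subgroup of prime order `p ≥ 5` with dihedral normalizer:
the centralizer of an involution is small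
-/

namespace Cfsg.Agent.Lib.Helper5.DihN

open Cfsg Cfsg.Agent.Lib.helper3.Irr Cfsg.Agent.Lib.helper3.CharBasic
open Cfsg.Agent.Lib.helper3.IndFun Cfsg.Agent.Lib.helper3.CycTI
open Cfsg.Agent.Lib.helper3.Central
open Cfsg.Agent.Lib.Helper7.BrP
open scoped ComplexConjugate

variable {G : Type*} [Group G] [Fintype G] (P : Subgroup G)

theorem norm_apply_le {χ : G → ℂ} (hχ : IsIrrCharacter G χ) (d : ℕ) (hd : χ 1 = d) (g : G) :
    ‖χ g‖ ≤ d := by
  obtain ⟨n, ρ, hirr, rfl⟩ := hχ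
  have h1 := norm_character_le ρ g
  have h2 : ρ.character 1 = (Module.finrank ℂ (Fin n → ℂ) : ℂ) := Representation.char_one ρ
  rw [hd] at h2
  have h3 : d = Module.finrank ℂ (Fin n → ℂ) := by exact_mod_cast h2
  rw [h3]
  exact h1

theorem orderOf_of_isConj {a b : G} (h : IsConj a b) : orderOf b = orderOf a := by
  obtain ⟨c, hc⟩ := isConj_iff.mp h
  rw [← hc]
  exact MulEquiv.orderOf_eq (MulAut.conj c) a

/-- If an involution class squares onto `x`, it does so at least `p` times. -/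
theorem card_pairs_ge {p : ℕ} (hp : p.Prime) (hP : Nat.card P = p) (hp2 : p ≠ 2)
    (hC : ∀ x ∈ P, x ≠ 1 → ∀ g : G, g * x = x * g → g ∈ P)
    (s : G) (hs : orderOf s = 2) (x : G) (hxP : x ∈ P)
    (hne : Nat.card {q : G × G // IsConj s q.1 ∧ IsConj s q.2 ∧ q.1 * q.2 = x} ≠ 0) :
    p ≤ Nat.card {q : G × G // IsConj s q.1 ∧ IsConj s q.2 ∧ q.1 * q.2 = x} := by
  classical
  haveI : Nonempty {q : G × G // IsConj s q.1 ∧ IsConj s q.2 ∧ q.1 * q.2 = x} := by
    by_contra h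
    rw [not_nonempty_iff] at h
    exact hne Nat.card_of_isEmpty
  obtain ⟨⟨⟨a, b⟩, ha, hb, hab⟩⟩ := ‹Nonempty {q : G × G // IsConj s q.1 ∧ IsConj s q.2 ∧ q.1 * q.2 = x}›
  simp only at ha hb hab
  have hcomm : ∀ g : P, (g : G) * x = x * g := fun g => comm_of_prime P hp hP g.2 hxP
  let f : P → {q : G × G // IsConj s q.1 ∧ IsConj s q.2 ∧ q.1 * q.2 = x} := fun g =>
    ⟨((g : G) * a * (g : G)⁻¹, (g : G) * b * (g : G)⁻¹),
      (isConj_conj_iff s a g).mpr ha, (isConj_conj_iff s b g).mpr hb, by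
        show (g : G) * a * (g : G)⁻¹ * ((g : G) * b * (g : G)⁻¹) = x
        calc (g : G) * a * (g : G)⁻¹ * ((g : G) * b * (g : G)⁻¹)
            = (g : G) * (a * b) * (g : G)⁻¹ := by group
          _ = (g : G) * x * (g : G)⁻¹ := by rw [hab]
          _ = x * (g : G) * (g : G)⁻¹ := by rw [hcomm g]
          _ = x := by group⟩
  have hf : Function.Injective f := by
    intro g h hgh
    have h1 : (g : G) * a * (g : G)⁻¹ = (h : G) * a * (h : G)⁻¹ := by
      have := congrArg (fun q => q.1.1) hgh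
      exact this
    by_contra hne'
    have hk : ((h : G)⁻¹ * (g : G)) ∈ P := P.mul_mem (P.inv_mem h.2) g.2
    have hk1 : (h : G)⁻¹ * (g : G) ≠ 1 := by
      intro h2
      apply hne'
      apply Subtype.ext
      have : (g : G) = (h : G) := by
        calc (g : G) = (h : G) * ((h : G)⁻¹ * (g : G)) := by group
          _ = h := by rw [h2, mul_one]
      exact this
    have hcomm2 : a * ((h : G)⁻¹ * (g : G)) = ((h : G)⁻¹ * (g : G)) * a := by
      calc a * ((h : G)⁻¹ * (g : G)) = (h : G)⁻¹ * ((h : G) * a * (h : G)⁻¹) * (h : G) * ((h : G)⁻¹ * g) := by group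
        _ = (h : G)⁻¹ * ((g : G) * a * (g : G)⁻¹) * (h : G) * ((h : G)⁻¹ * g) := by rw [h1]
        _ = ((h : G)⁻¹ * (g : G)) * a := by group
    have haP : a ∈ P := hC _ hk hk1 a hcomm2
    have hoa : orderOf a = 2 := by rw [orderOf_of_isConj ha, hs]
    have hdvd : orderOf (⟨a, haP⟩ : P) ∣ Nat.card P := orderOf_dvd_natCard _
    rw [Subgroup.orderOf_mk, hoa, hP] at hdvd
    exact hp2 ((Nat.prime_dvd_prime_iff_eq Nat.prime_two hp).mp hdvd).symm
  have := Nat.card_le_card_of_injective f hf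
  rwa [hP] at this

end Cfsg.Agent.Lib.Helper5.DihN

namespace Cfsg.Agent.Lib.Helper5.DihN

open Cfsg Cfsg.Agent.Lib.helper3.Irr Cfsg.Agent.Lib.helper3.CharBasic
open Cfsg.Agent.Lib.helper3.IndFun Cfsg.Agent.Lib.helper3.CycTI
open Cfsg.Agent.Lib.helper3.Central
open Cfsg.Agent.Lib.Helper7.BrP
open scoped ComplexConjugate

/-- **Dihedral normalizer theorem.** In a finite simple group with a self-centralizing subgroup
`P` of prime order `p ≥ 5` whose normalizer has order `2p`, the centralizer of any involution `s`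
satisfies `p * |C(s)|² * (d - 1) ≤ 4 * d * |G|` for some `d ≥ p - 1`. -/
theorem dihedral_normalizer_bound {G : Type*} [Group G] [Finite G] [IsSimpleGroup G]
    (P : Subgroup G) {p : ℕ} (hp : p.Prime) (h5 : 5 ≤ p) (hP : Nat.card P = p)
    (hC : ∀ x ∈ P, x ≠ 1 → ∀ g : G, g * x = x * g → g ∈ P)
    (hN : Nat.card (Subgroup.normalizer (P : Set G)) = p * 2)
    (s : G) (hs : orderOf s = 2) :
    ∃ d : ℕ, p - 1 ≤ d ∧
      p * Nat.card (Subgroup.centralizer ({s} : Set G)) ^ 2 * (d - 1) ≤ 4 * d * Nat.card G := by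
  classical
  letI : Fintype G := Fintype.ofFinite G
  letI : Fintype P := Fintype.ofFinite P
  have hp2 : p ≠ 2 := by omega
  have hG : ¬ (Nat.card G).Prime := by
    intro hq
    have h1 : Nat.card (Subgroup.normalizer (P : Set G)) ∣ Nat.card G :=
      Subgroup.card_subgroup_dvd_card _
    rw [hN] at h1
    have h2 : p ∣ Nat.card G := Dvd.dvd.trans (Dvd.intro _ rfl) h1
    have h3 := (Nat.prime_dvd_prime_iff_eq hp hq).mp h2
    rw [← h3] at h1
    have := Nat.le_of_dvd hp.pos h1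
    omega
  obtain ⟨Y, m, d, hm, hY, hd, hdpos, hYx, hsum⟩ := dihedral_sum P hp h5 hP hC hN
  have hd1 : d ≠ 1 := by
    intro h
    apply hY
    apply linear_eq_triv_of_simple hG Y
    rw [hd, h]
    simp
  obtain ⟨x, hxP, hx⟩ := exists_ne_one_mem P hp hP
  -- degree congruence
  have hcong : (p : ℤ) ∣ (d : ℤ) - m := by
    obtain ⟨n₁, hn₁⟩ := exists_nat_classInner_of_isCharacter
      (isCharacter_restrict (isCharacter_of_isIrrCharacter Y.2) P)
      ⟨fun _ => 1, isIrrCharacter_one⟩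
    rw [classInner_apply, hP] at hn₁
    have hsumP : ∑ k : P, (Y : G → ℂ) (k : G) * conj ((fun _ : P => (1 : ℂ)) k)
        = (d : ℂ) + ((p : ℂ) - 1) * (m : ℂ) := by
      rw [← Finset.add_sum_erase Finset.univ _ (Finset.mem_univ (1 : P))]
      have h1 : ∀ k ∈ Finset.univ.erase (1 : P),
          (Y : G → ℂ) (k : G) * conj ((fun _ : P => (1 : ℂ)) k) = (m : ℂ) := by
        intro k hk
        have hk1 : (k : G) ≠ 1 := fun h => (Finset.ne_of_mem_erase hk) (Subtype.ext h)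
        rw [hYx k k.2 hk1]
        simp
      rw [Finset.sum_congr rfl h1, Finset.sum_const, Finset.card_erase_of_mem (Finset.mem_univ _),
        Finset.card_univ, ← Nat.card_eq_fintype_card, hP]
      simp only [Subgroup.coe_one, hd, map_one, mul_one, nsmul_eq_mul]
      rw [Nat.cast_sub hp.one_lt.le]
      simp
    rw [hsumP] at hn₁
    have hp0 : (p : ℂ) ≠ 0 := by exact_mod_cast hp.ne_zero
    have h2 : (d : ℂ) + ((p : ℂ) - 1) * (m : ℂ) = (p : ℂ) * (n₁ : ℂ) := by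
      rw [← hn₁]
      field_simp
    have h3 : ((d : ℤ) + ((p : ℤ) - 1) * m : ℤ) = (p : ℤ) * (n₁ : ℤ) := by
      have : (((d : ℤ) + ((p : ℤ) - 1) * m : ℤ) : ℂ) = (((p : ℤ) * (n₁ : ℤ) : ℤ) : ℂ) := by
        push_cast
        exact h2
      exact Int.cast_injective this
    exact ⟨(n₁ : ℤ) - m, by linear_combination h3⟩
  have hd2 : 2 ≤ d := by omega
  have hpd : p - 1 ≤ d := by
    have h1 : (0 : ℤ) < (d : ℤ) - m := by rcases hm with h | h <;> rw [h] <;> omega
    have h2 := Int.le_of_dvd h1 hcong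
    rcases hm with h | h <;> rw [h] at h2 <;> omega
  refine ⟨d, hpd, ?_⟩
  -- the kernel
  have hu : (Y : G → ℂ) s ≠ (d : ℂ) := by
    intro h
    have hsK : s ∈ Cfsg.Agent.Lib.helper3.PDeg.kerSub (isCharacter_of_isIrrCharacter Y.2) := by
      rw [Cfsg.Agent.Lib.helper3.PDeg.mem_kerSub, h, hd]
    rcases (Cfsg.Agent.Lib.helper3.PDeg.kerSub_normal
      (isCharacter_of_isIrrCharacter Y.2)).eq_bot_or_eq_top with hb | ht
    · rw [hb, Subgroup.mem_bot] at hsK
      rw [hsK, orderOf_one] at hs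
      omega
    · have hxK : x ∈ Cfsg.Agent.Lib.helper3.PDeg.kerSub (isCharacter_of_isIrrCharacter Y.2) := by
        rw [ht]; trivial
      rw [Cfsg.Agent.Lib.helper3.PDeg.mem_kerSub, hYx x hxP hx, hd] at hxK
      have : (m : ℤ) = (d : ℤ) := by
        have h' : ((m : ℤ) : ℂ) = (((d : ℕ) : ℤ) : ℂ) := by push_cast; exact hxK
        exact Int.cast_injective h'
      rcases hm with h' | h' <;> rw [h'] at this <;> omega
  -- involutions are not conjugate into P
  have hs_off : ∀ g : G, g⁻¹ * s * g ∈ P → g⁻¹ * s * g = 1 := by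
    intro g hg
    exfalso
    have hconj : IsConj s (g⁻¹ * s * g) := isConj_iff.mpr ⟨g⁻¹, by group⟩
    have ho : orderOf (g⁻¹ * s * g) = 2 := by rw [orderOf_of_isConj hconj, hs]
    have hdvd : orderOf (⟨g⁻¹ * s * g, hg⟩ : P) ∣ Nat.card P := orderOf_dvd_natCard _
    rw [Subgroup.orderOf_mk, ho, hP] at hdvd
    exact hp2 ((Nat.prime_dvd_prime_iff_eq Nat.prime_two hp).mp hdvd).symm
  -- class multiplication
  have hmc := mulCount_eq s s x
  rw [hsum x hxP hx s s hs_off hs_off] at hmc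
  unfold mulCount at hmc
  have hcC : (cls s).card * Nat.card (Subgroup.centralizer ({s} : Set G)) = Nat.card G := by
    have h1 : (cls s).card = (Subgroup.centralizer ({s} : Set G)).index := card_class_eq_index s
    rw [h1, mul_comm]
    exact Subgroup.card_mul_index _
  have hcpos : 0 < (cls s).card := Finset.card_pos.mpr ⟨s, mem_cls.mpr (IsConj.refl s)⟩
  have hnpos : 0 < Nat.card G := Nat.card_pos
  have hCpos : 0 < Nat.card (Subgroup.centralizer ({s} : Set G)) := Nat.card_pos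
  obtain ⟨D', hD'⟩ : ∃ D' : ℤ, D' = (d : ℤ) + m := ⟨_, rfl⟩
  have hD'pos : 0 < D' := by rcases hm with h | h <;> rw [hD', h] <;> omega
  have hD'ge : (d : ℤ) - 1 ≤ D' := by rcases hm with h | h <;> rw [hD', h] <;> omega
  have hcast : (d : ℂ) + (m : ℂ) = (D' : ℂ) := by rw [hD']; push_cast; ring
  rw [hcast] at hmc
  have hn0 : (Nat.card G : ℂ) ≠ 0 := by exact_mod_cast hnpos.ne'
  have hd0 : (d : ℂ) ≠ 0 := by
    have : d ≠ 0 := by omega
    exact_mod_cast this
  have hD'0 : (D' : ℂ) ≠ 0 := by exact_mod_cast hD'pos.ne'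
  have hw0 : (d : ℂ) - (Y : G → ℂ) s ≠ 0 := fun h => hu (by linear_combination -h)
  have hc0 : ((cls s).card : ℂ) ≠ 0 := by exact_mod_cast hcpos.ne'
  have hNne : Nat.card {q : G × G // IsConj s q.1 ∧ IsConj s q.2 ∧ q.1 * q.2 = x} ≠ 0 := by
    intro h
    rw [h] at hmc
    simp only [Nat.cast_zero] at hmc
    have h1 := hmc.symm
    have h2 : ((cls s).card : ℂ) * ((cls s).card : ℂ) / (Nat.card G : ℂ) ≠ 0 :=
      div_ne_zero (mul_ne_zero hc0 hc0) hn0
    have h3 : ((d : ℂ) - (Y : G → ℂ) s) * ((d : ℂ) - (Y : G → ℂ) s) / ((d : ℂ) * (D' : ℂ)) ≠ 0 :=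
      div_ne_zero (mul_ne_zero hw0 hw0) (mul_ne_zero hd0 hD'0)
    exact (mul_ne_zero h2 h3) h1
  have hpN := card_pairs_ge P hp hP hp2 hC s hs x hxP hNne
  obtain ⟨N, hNdef⟩ : ∃ N : ℕ,
      N = Nat.card {q : G × G // IsConj s q.1 ∧ IsConj s q.2 ∧ q.1 * q.2 = x} := ⟨_, rfl⟩
  rw [← hNdef] at hmc hpN
  have hE : (N : ℂ) * (Nat.card G : ℂ) * ((d : ℂ) * (D' : ℂ))
      = ((cls s).card : ℂ) * ((cls s).card : ℂ) *
        (((d : ℂ) - (Y : G → ℂ) s) * ((d : ℂ) - (Y : G → ℂ) s)) := by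
    rw [hmc]
    field_simp
  have hnorm := congrArg (fun z : ℂ => ‖z‖) hE
  simp only [norm_mul, Complex.norm_natCast, Complex.norm_intCast] at hnorm
  rw [abs_of_pos (by exact_mod_cast hD'pos : (0 : ℝ) < (D' : ℝ))] at hnorm
  have hw : ‖(d : ℂ) - (Y : G → ℂ) s‖ ≤ 2 * (d : ℝ) := by
    calc ‖(d : ℂ) - (Y : G → ℂ) s‖ ≤ ‖(d : ℂ)‖ + ‖(Y : G → ℂ) s‖ := norm_sub_le _ _
      _ ≤ (d : ℝ) + (d : ℝ) := by
          rw [Complex.norm_natCast]
          exact add_le_add le_rfl (norm_apply_le Y.2 d hd s)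
      _ = 2 * (d : ℝ) := by ring
  have hwnn : 0 ≤ ‖(d : ℂ) - (Y : G → ℂ) s‖ := norm_nonneg _
  have e1 : (N : ℝ) * (Nat.card G : ℝ) * ((d : ℝ) * (D' : ℝ))
      ≤ ((cls s).card : ℝ) * ((cls s).card : ℝ) * (4 * (d : ℝ) * (d : ℝ)) := by
    rw [hnorm]
    apply mul_le_mul_of_nonneg_left _ (by positivity)
    calc ‖(d : ℂ) - (Y : G → ℂ) s‖ * ‖(d : ℂ) - (Y : G → ℂ) s‖
        ≤ (2 * (d : ℝ)) * (2 * (d : ℝ)) := mul_le_mul hw hw hwnn (by positivity)
      _ = 4 * (d : ℝ) * (d : ℝ) := by ring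
  have hcCr : ((cls s).card : ℝ) * (Nat.card (Subgroup.centralizer ({s} : Set G)) : ℝ)
      = (Nat.card G : ℝ) := by exact_mod_cast hcC
  have hnposr : (0 : ℝ) < (Nat.card G : ℝ) := by exact_mod_cast hnpos
  have hdposr : (0 : ℝ) < (d : ℝ) := by exact_mod_cast hdpos
  have hD'posr : (0 : ℝ) < (D' : ℝ) := by exact_mod_cast hD'pos
  have e2 : (N : ℝ) * (D' : ℝ) * ((Nat.card (Subgroup.centralizer ({s} : Set G)) : ℝ) ^ 2)
      * ((Nat.card G : ℝ) * (d : ℝ)) ≤ (4 * (Nat.card G : ℝ) * (d : ℝ)) * ((Nat.card G : ℝ) * (d : ℝ)) := by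
    calc (N : ℝ) * (D' : ℝ) * ((Nat.card (Subgroup.centralizer ({s} : Set G)) : ℝ) ^ 2)
          * ((Nat.card G : ℝ) * (d : ℝ))
        = ((N : ℝ) * (Nat.card G : ℝ) * ((d : ℝ) * (D' : ℝ)))
          * ((Nat.card (Subgroup.centralizer ({s} : Set G)) : ℝ) ^ 2) := by ring
      _ ≤ (((cls s).card : ℝ) * ((cls s).card : ℝ) * (4 * (d : ℝ) * (d : ℝ)))
          * ((Nat.card (Subgroup.centralizer ({s} : Set G)) : ℝ) ^ 2) :=
          mul_le_mul_of_nonneg_right e1 (by positivity)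
      _ = (4 * (Nat.card G : ℝ) * (d : ℝ)) * ((Nat.card G : ℝ) * (d : ℝ)) := by
          rw [← hcCr]; ring
  have e3 : (N : ℝ) * (D' : ℝ) * ((Nat.card (Subgroup.centralizer ({s} : Set G)) : ℝ) ^ 2)
      ≤ 4 * (Nat.card G : ℝ) * (d : ℝ) :=
    le_of_mul_le_mul_right e2 (by positivity)
  have hpNr : (p : ℝ) ≤ (N : ℝ) := by exact_mod_cast hpN
  have hD'ger : (d : ℝ) - 1 ≤ (D' : ℝ) := by exact_mod_cast hD'ge
  have hd1r : (0 : ℝ) ≤ (d : ℝ) - 1 := by
    have : (1 : ℝ) ≤ (d : ℝ) := by exact_mod_cast hdpos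
    linarith
  have e4 : (p : ℝ) * ((d : ℝ) - 1) * ((Nat.card (Subgroup.centralizer ({s} : Set G)) : ℝ) ^ 2)
      ≤ (N : ℝ) * (D' : ℝ) * ((Nat.card (Subgroup.centralizer ({s} : Set G)) : ℝ) ^ 2) := by
    apply mul_le_mul_of_nonneg_right _ (by positivity)
    exact mul_le_mul hpNr hD'ger hd1r (by positivity)
  have e5 : ((p * Nat.card (Subgroup.centralizer ({s} : Set G)) ^ 2 * (d - 1) : ℕ) : ℝ)
      ≤ ((4 * d * Nat.card G : ℕ) : ℝ) := by
    push_cast [Nat.cast_sub hdpos]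
    have := e4.trans e3
    linarith [this]
  exact_mod_cast e5

end Cfsg.Agent.Lib.Helper5.DihN
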