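import Mathlib
import Cfsg.Prelude.Def_Characters
import Cfsg.Agent.Lib.Helper5.DihN.Bessel
import Cfsg.Agent.Lib.Lead.WedgeNorm
import Cfsg.Agent.Lib.Lead.WedgeNormG

set_option autoImplicit false
set_option linter.style.haveILetI false
set_option linter.unusedSectionVars false
set_option linter.unusedVariables false

/-!
# Step (4) of S4706: the Bessel inequality for `∧²π`
-/

namespace Cfsg.Agent.Lib.Helper5.DihN

open Cfsg Cfsg.Agent.Lib.helper3.Irr Cfsg.Agent.Lib.helper3.CharBasic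
open Cfsg.Agent.Lib.helper3.IndFun Cfsg.Agent.Lib.helper3.CycTI
open Cfsg.Agent.Lib.Helper7.BrP
open Cfsg.Agent.Lib.Lead.WedgeNorm
open Equiv MulAction
open scoped ComplexConjugate

variable {α : Type*} [Fintype α] [DecidableEq α]

theorem F_conj (σ τ : Perm α) : F (τ * σ * τ⁻¹) = F σ := by
  unfold F
  symm
  apply Finset.card_bij (fun a _ => τ a)
  · intro a ha
    simp only [Finset.mem_filter, Finset.mem_univ, true_and] at ha ⊢
    simp [Perm.mul_apply, ha]
  · intro a _ b _ h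
    exact τ.injective h
  · intro b hb
    simp only [Finset.mem_filter, Finset.mem_univ, true_and] at hb
    refine ⟨τ⁻¹ b, ?_, by simp⟩
    simp only [Finset.mem_filter, Finset.mem_univ, true_and]
    have := congrArg (fun c => (τ⁻¹ : Perm α) c) hb
    simpa [Perm.mul_apply] using this

theorem wedge2_conj (σ τ : Perm α) : wedge2 (τ * σ * τ⁻¹) = wedge2 σ := by
  unfold wedge2
  have h : (τ * σ * τ⁻¹) ^ 2 = τ * σ ^ 2 * τ⁻¹ := conj_pow
  rw [h, F_conj, F_conj]

variable (G : Subgroup (Equiv.Perm α)) [Fintype G] (P : Subgroup G)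

/-- **Step (4)**: the Bessel inequality `2 (p + 1) |G| ≤ Σ_g wedge2(g)²`. -/
theorem bessel_wedge {p : ℕ} (hp : p.Prime) (h5 : 5 ≤ p) (hα : Fintype.card α = p)
    (hP : Nat.card P = p)
    (hC : ∀ x ∈ P, x ≠ 1 → ∀ g : G, g * x = x * g → g ∈ P)
    (hN : Nat.card (Subgroup.normalizer (P : Set G)) = p * 2)
    (Y : IrrCharacter G)
    (hπ : ∀ g : G, (F (g : Perm α) : ℂ) = 1 + (Y : G → ℂ) g)
    (hΞ : ∀ ω : P →* ℂˣ, ω ≠ 1 → ∃ l : IrrCharacter G, l ≠ Y ∧
      ∀ g : G, Xi P ω g = 1 - (Y : G → ℂ) g + (l : G → ℂ) g)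
    (hfix : ∀ x : G, x ∈ P → x ≠ 1 → F (x : Perm α) = 0)
    (h3 : IsMultiplyPretransitive G α 3) :
    2 * ((Fintype.card α : ℤ) + 1) * (Fintype.card G : ℤ) ≤
      ∑ g : G, wedge2 (g : Perm α) ^ 2 := by
  classical
  have hn3 : 3 ≤ Fintype.card α := by omega
  set σ : G → ℂ := fun g => ((wedge2 (g : Perm α) : ℤ) : ℂ) with hσdef
  have hσ : IsClassFunction G σ := by
    intro g h
    simp only [hσdef]
    have : ((h * g * h⁻¹ : G) : Perm α) = (h : Perm α) * (g : Perm α) * (h : Perm α)⁻¹ := by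
      simp
    rw [this, wedge2_conj]
  have hσP : ∀ x ∈ P, x ≠ 1 → σ x = 0 := by
    intro x hx hx1
    simp only [hσdef]
    have h1 := hfix x hx hx1
    have hx2P : x ^ 2 ∈ P := P.pow_mem hx 2
    have hx21 : x ^ 2 ≠ 1 := by
      intro h
      have ho : orderOf x ∣ 2 := orderOf_dvd_of_pow_eq_one h
      have hop : orderOf x ∣ p := by
        rw [← hP, ← Subgroup.orderOf_mk x hx]
        exact orderOf_dvd_natCard _
      have hne1 : orderOf x ≠ 1 := fun h => hx1 (orderOf_eq_one_iff.mp h)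
      rcases (Nat.dvd_prime hp).mp hop with h' | h'
      · exact hne1 h'
      · rw [h'] at ho
        have := Nat.le_of_dvd (by norm_num) ho
        omega
    have h2 := hfix (x ^ 2) hx2P hx21
    have h2' : F ((x : Perm α) ^ 2) = 0 := by
      have : ((x ^ 2 : G) : Perm α) = (x : Perm α) ^ 2 := by simp
      rw [← this]; exact h2
    unfold wedge2
    rw [h1, h2']
    simp
  have hcardG : (Nat.card G : ℂ) = (Fintype.card G : ℂ) := by rw [Nat.card_eq_fintype_card]
  have hG0 : (Fintype.card G : ℂ) ≠ 0 := by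
    exact_mod_cast Fintype.card_ne_zero
  have hsw := sum_wedge2 G h3 hn3
  have hswF := sum_wedge2_mul_F G h3 hn3
  have hs0 : classInner σ (fun _ => 1) = 0 := by
    rw [classInner_apply]
    simp only [map_one, mul_one, hσdef]
    rw [← Int.cast_sum, hsw]
    simp
  have hs1 : classInner σ (Y : G → ℂ) = 2 := by
    rw [classInner_apply]
    have hY : ∀ g : G, conj ((Y : G → ℂ) g) = (F (g : Perm α) : ℂ) - 1 := by
      intro g
      have : (Y : G → ℂ) g = (F (g : Perm α) : ℂ) - 1 := by rw [hπ g]; ring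
      rw [this, map_sub, map_one, map_natCast]
    have hsum : ∑ g : G, σ g * conj ((Y : G → ℂ) g) =
        ((∑ g : G, wedge2 (g : Perm α) * (F (g : Perm α) : ℤ) : ℤ) : ℂ) -
          ((∑ g : G, wedge2 (g : Perm α) : ℤ) : ℂ) := by
      rw [Int.cast_sum, Int.cast_sum, ← Finset.sum_sub_distrib]
      apply Finset.sum_congr rfl
      intro g _
      rw [hY g]
      simp only [hσdef]
      push_cast
      ring
    rw [hsum, hsw, hswF, hcardG]
    simp only [Int.cast_mul, Int.cast_ofNat, Int.cast_natCast, Int.cast_zero, sub_zero]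
    field_simp
  obtain ⟨r, hr, hle⟩ := bessel_exceptional P hp h5 hP hC hN Y hΞ σ hσ hσP hs0 hs1
  -- `⟨σ, σ⟩ = Σ wedge2² / |G|`
  have hσσ : classInner σ σ =
      (Fintype.card G : ℂ)⁻¹ * ((∑ g : G, wedge2 (g : Perm α) ^ 2 : ℤ) : ℂ) := by
    rw [classInner_apply, hcardG]
    congr 1
    rw [Int.cast_sum]
    apply Finset.sum_congr rfl
    intro g _
    simp only [hσdef]
    rw [map_intCast]
    push_cast
    ring
  rw [hσσ] at hr
  have hr' : ((∑ g : G, wedge2 (g : Perm α) ^ 2 : ℤ) : ℝ) = r * (Fintype.card G : ℝ) := by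
    have h1 : ((∑ g : G, wedge2 (g : Perm α) ^ 2 : ℤ) : ℂ) = (r : ℂ) * (Fintype.card G : ℂ) := by
      rw [← hr]
      field_simp
    have h2 : (((∑ g : G, wedge2 (g : Perm α) ^ 2 : ℤ) : ℝ) : ℂ) =
        ((r * (Fintype.card G : ℝ) : ℝ) : ℂ) := by
      push_cast
      push_cast at h1
      exact h1
    exact Complex.ofReal_injective h2
  have hGpos : (0 : ℝ) < (Fintype.card G : ℝ) := by exact_mod_cast Fintype.card_pos
  have hfinal : ((2 * ((Fintype.card α : ℤ) + 1) * (Fintype.card G : ℤ) : ℤ) : ℝ) ≤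
      ((∑ g : G, wedge2 (g : Perm α) ^ 2 : ℤ) : ℝ) := by
    rw [hr', hα]
    push_cast
    nlinarith
  exact_mod_cast hfinal

end Cfsg.Agent.Lib.Helper5.DihN
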